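import Mathlib

/-! The filtration by the parameter `x / y` on a Weierstrass cubic whose coefficients lie in the maximal ideal:
torsion of order invertible in the residue field has non-unit coordinates. -/

set_option autoImplicit false
set_option maxHeartbeats 400000
universe u v

open IsLocalRing Polynomial
open WeierstrassCurve (Affine)

noncomputable section

namespace EllTorsLib

variable {R : Type u} [CommRing R] [IsDomain R] [IsLocalRing R] {K : Type v} [Field K] [DecidableEq K] [Algebra R K]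
  [IsFractionRing R K]

local notation "ι" => algebraMap R K
local notation "𝔪" => IsLocalRing.maximalIdeal R

variable (W : WeierstrassCurve R)

local notation "E" => WeierstrassCurve.toAffine (WeierstrassCurve.map W (algebraMap R K))

/-- All coefficients lie in the maximal ideal. -/
structure Sing : Prop where
  h₁ : W.a₁ ∈ 𝔪
  h₂ : W.a₂ ∈ 𝔪
  h₃ : W.a₃ ∈ 𝔪
  h₄ : W.a₄ ∈ 𝔪
  h₆ : W.a₆ ∈ 𝔪

variable {W} (hW : Sing W)

omit [IsDomain R] in
theorem isUnit_one_add {a : R} (ha : a ∈ 𝔪) : IsUnit (1 + a) := by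
  by_contra h
  have h1 : (1 + a) ∈ 𝔪 := (IsLocalRing.mem_maximalIdeal _).2 h
  have := sub_mem h1 ha
  rw [add_sub_cancel_right] at this
  exact (Ideal.IsPrime.ne_top inferInstance) ((Ideal.eq_top_iff_one _).2 this)

/-- The equation in the coordinates `t = x / y`, `s = 1 / y`. -/
theorem eqn_ts {x y : K} {t s : R} (hxy : (E).Equation x y) (hx : x = ι t * y) (hs : ι s * y = 1) :
    s * (1 + (W.a₁ * t + W.a₃ * s - W.a₂ * t ^ 2 - W.a₄ * t * s - W.a₆ * s ^ 2)) = t ^ 3 := by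
  refine IsFractionRing.injective R K ?_
  rw [Affine.equation_iff] at hxy
  simp only [WeierstrassCurve.map_a₁, WeierstrassCurve.map_a₂, WeierstrassCurve.map_a₃,
    WeierstrassCurve.map_a₄, WeierstrassCurve.map_a₆] at hxy
  have hy : y ≠ 0 := fun h => one_ne_zero (α := K) (by rw [← hs, h, mul_zero])
  have hs' : ι s = y⁻¹ := eq_inv_of_mul_eq_one_left hs
  simp only [map_mul, map_add, map_sub, map_pow, map_one]
  rw [hs']
  subst hx
  field_simp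
  linear_combination hxy

include hW in
theorem s_mem {x y : K} {t s : R} (hxy : (E).Equation x y) (hx : x = ι t * y) (hs : ι s * y = 1)
    {I : Ideal R} (ht : t ^ 3 ∈ I) : s ∈ I := by
  have h := eqn_ts hxy hx hs
  have hu : IsUnit (1 + (W.a₁ * t + W.a₃ * s - W.a₂ * t ^ 2 - W.a₄ * t * s - W.a₆ * s ^ 2)) := by
    refine isUnit_one_add ?_
    repeat first
      | exact Ideal.mul_mem_right _ _ hW.h₁
      | exact Ideal.mul_mem_right _ _ hW.h₂
      | exact Ideal.mul_mem_right _ _ hW.h₃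
      | exact Ideal.mul_mem_right _ _ hW.h₆
      | exact Ideal.mul_mem_right _ _ (Ideal.mul_mem_right _ _ hW.h₄)
      | refine sub_mem ?_ ?_
      | refine add_mem ?_ ?_
  rw [← h] at ht
  exact (Ideal.mul_unit_mem_iff_mem I hu).1 ht

variable (W) in
/-- `(t, s)` are the coordinates of `Q`. -/
def Par : (E).Point → R → R → Prop
  | .zero, t, s => t = 0 ∧ s = 0
  | .some x y _, t, s => x = ι t * y ∧ ι s * y = 1

theorem par_zero : Par W (0 : (E).Point) 0 0 := ⟨rfl, rfl⟩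

theorem par_unique {Q : (E).Point} {t s t' s' : R} (h : Par W Q t s) (h' : Par W Q t' s') : t = t' ∧ s = s' := by
  cases Q with
  | zero => exact ⟨h.1.trans h'.1.symm, h.2.trans h'.2.symm⟩
  | some x y hn =>
    have hy : y ≠ 0 := fun e => one_ne_zero (α := K) (by rw [← h.2, e, mul_zero])
    refine ⟨IsFractionRing.injective R K (mul_right_cancel₀ hy (h.1.symm.trans h'.1)),
      IsFractionRing.injective R K (mul_right_cancel₀ hy (h.2.trans h'.2.symm))⟩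

/-- The homogeneous identity behind the sum of the parameters. -/
theorem line_core {a₁ a₂ a₃ a₄ a₆ ℓ ν x₁ x₂ x₃ : K}
    (he₁ : x₁ + x₂ + x₃ = ℓ ^ 2 + a₁ * ℓ - a₂)
    (he₂ : x₁ * x₂ + x₁ * x₃ + x₂ * x₃ = a₄ - 2 * ℓ * ν - a₁ * ν - a₃ * ℓ)
    (he₃ : x₁ * x₂ * x₃ = ν ^ 2 + a₃ * ν - a₆) :
    (ℓ * x₁ + ν) * (ℓ * x₂ + ν) * (ℓ * x₃ + ν) = ν ^ 3 - a₂ * ℓ * ν ^ 2 + a₄ * ℓ ^ 2 * ν - a₆ * ℓ ^ 3 ∧
    x₁ * (ℓ * x₂ + ν) * (ℓ * x₃ + ν) + x₂ * (ℓ * x₁ + ν) * (ℓ * x₃ + ν) + x₃ * (ℓ * x₁ + ν) * (ℓ * x₂ + ν) =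
      -(a₂ * ν ^ 2 + a₁ * ℓ * ν ^ 2 - a₃ * ℓ ^ 2 * ν - 2 * a₄ * ℓ * ν + 3 * a₆ * ℓ ^ 2) := by
  constructor
  · linear_combination ℓ * ν ^ 2 * he₁ + ℓ ^ 2 * ν * he₂ + ℓ ^ 3 * he₃
  · linear_combination ν ^ 2 * he₁ + 2 * ℓ * ν * he₂ + 3 * ℓ ^ 2 * he₃

include hW in
/-- Additivity of the parameter. -/
theorem par_add (j : ℕ) {Q₁ Q₂ : (E).Point} {t₁ s₁ t₂ s₂ : R} (p₁ : Par W Q₁ t₁ s₁) (p₂ : Par W Q₂ t₂ s₂)
    (ht₁ : t₁ ∈ 𝔪 ^ j) (ht₂ : t₂ ∈ 𝔪 ^ j) :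
    ∃ t s, Par W (Q₁ + Q₂) t s ∧ t - t₁ - t₂ ∈ 𝔪 ^ (j + 1) := by
  rcases Q₁ with - | ⟨x₁, y₁, n₁⟩
  · obtain ⟨rfl, rfl⟩ := p₁
    exact ⟨t₂, s₂, by rw [← Affine.Point.zero_def, zero_add]; exact p₂, by simp⟩
  rcases Q₂ with - | ⟨x₂, y₂, n₂⟩
  · obtain ⟨rfl, rfl⟩ := p₂
    exact ⟨t₁, s₁, by rw [← Affine.Point.zero_def, add_zero]; exact p₁, by simp⟩
  obtain ⟨hx₁, hs₁⟩ := p₁
  obtain ⟨hx₂, hs₂⟩ := p₂
  have hy₁ : y₁ ≠ 0 := fun h => one_ne_zero (α := K) (by rw [← hs₁, h, mul_zero])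
  have hy₂ : y₂ ≠ 0 := fun h => one_ne_zero (α := K) (by rw [← hs₂, h, mul_zero])
  have e₁ := eqn_ts n₁.1 hx₁ hs₁
  have e₂ := eqn_ts n₂.1 hx₂ hs₂
  have hjs : ∀ {a : R}, a ∈ 𝔪 → ∀ {b : R}, b ∈ 𝔪 ^ j → a * b ∈ 𝔪 ^ (j + 1) := fun ha b hb => by
    rw [pow_succ']; exact Ideal.mul_mem_mul ha hb
  have hsj : ∀ {x y : K} {t s : R}, (E).Equation x y → x = ι t * y → ι s * y = 1 → t ∈ 𝔪 ^ j → s ∈ 𝔪 ^ j :=
    fun h hx hs ht => s_mem hW h hx hs (Ideal.pow_mem_of_mem _ ht 3 (by norm_num))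
  have hsj₁ := hsj n₁.1 hx₁ hs₁ ht₁
  have hsj₂ := hsj n₂.1 hx₂ hs₂ ht₂
  by_cases hxy : x₁ = x₂ ∧ y₁ = (E).negY x₂ y₂
  · refine ⟨0, 0, by rw [Affine.Point.add_of_Y_eq hxy.1 hxy.2]; exact par_zero, ?_⟩
    obtain ⟨hxe, hye⟩ := hxy
    have hm : W.a₁ * t₂ + W.a₃ * s₂ ∈ 𝔪 :=
      add_mem (Ideal.mul_mem_right _ _ hW.h₁) (Ideal.mul_mem_right _ _ hW.h₃)
    have h : t₁ * (1 + (W.a₁ * t₂ + W.a₃ * s₂)) = -t₂ := by
      refine IsFractionRing.injective R K (mul_right_cancel₀ hy₂ ?_)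
      simp only [Affine.negY, WeierstrassCurve.map_a₁, WeierstrassCurve.map_a₃] at hye
      simp only [map_mul, map_add, map_one, map_neg]
      linear_combination ι t₁ * hye + hx₁ - hxe - hx₂ + (ι t₁ * ι W.a₁) * (-hx₂) + (ι t₁ * ι W.a₃) * hs₂
    have : (0 : R) - t₁ - t₂ = (W.a₁ * t₂ + W.a₃ * s₂) * t₁ := by linear_combination -h
    rw [this]
    exact hjs hm ht₁
  set ℓ := (E).slope x₁ x₂ y₁ y₂ with hℓ
  let ν := y₁ - ℓ * x₁
  set x₃ := (E).addX x₁ x₂ ℓ with hx₃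
  let y' := ℓ * x₃ + ν
  -- the line in the chart
  obtain ⟨α, hν, hα, hαj⟩ : ∃ α : R, ν ≠ 0 ∧ ι α * ν = -ℓ ∧ α ∈ 𝔪 ^ j ∧ y₂ = ℓ * x₂ + ν := by
    by_cases hx : x₁ = x₂
    · have hy : y₁ ≠ (E).negY x₂ y₂ := fun h => hxy ⟨hx, h⟩
      have hyy : y₁ = y₂ := Affine.Y_eq_of_Y_ne n₁.1 n₂.1 hx hy
      let D : R := 1 + (W.a₁ * t₁ + 2 * W.a₃ * s₁ - W.a₂ * t₁ ^ 2 - 2 * W.a₄ * t₁ * s₁ - 3 * W.a₆ * s₁ ^ 2)
      let N : R := 3 * t₁ ^ 2 + 2 * W.a₂ * t₁ * s₁ + W.a₄ * s₁ ^ 2 - W.a₁ * s₁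
      have hD : IsUnit D := isUnit_one_add (by
        repeat first
          | exact Ideal.mul_mem_right _ _ hW.h₁
          | exact Ideal.mul_mem_right _ _ hW.h₂
          | exact Ideal.mul_mem_right _ _ (Ideal.mul_mem_left _ _ hW.h₃)
          | exact Ideal.mul_mem_right _ _ (Ideal.mul_mem_right _ _ (Ideal.mul_mem_left _ _ hW.h₄))
          | exact Ideal.mul_mem_right _ _ (Ideal.mul_mem_left _ _ hW.h₆)
          | refine sub_mem ?_ ?_
          | refine add_mem ?_ ?_)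
      obtain ⟨u, hu⟩ := hD
      have hN : N ∈ 𝔪 ^ j := by
        refine sub_mem (add_mem (add_mem ?_ ?_) ?_) ?_
        · exact Ideal.mul_mem_left _ _ (Ideal.pow_mem_of_mem _ ht₁ 2 (by norm_num))
        · exact Ideal.mul_mem_left _ _ hsj₁
        · exact Ideal.mul_mem_left _ _ (Ideal.pow_mem_of_mem _ hsj₁ 2 (by norm_num))
        · exact Ideal.mul_mem_left _ _ hsj₁
      have hden : y₁ - (E).negY x₁ y₁ ≠ 0 := sub_ne_zero.2 (fun h => hy (by rw [← hx, ← hyy]; exact h))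
      have hℓ' : ℓ * (y₁ - (E).negY x₁ y₁) =
          3 * x₁ ^ 2 + 2 * ι W.a₂ * x₁ + ι W.a₄ - ι W.a₁ * y₁ := by
        rw [hℓ, Affine.slope_of_Y_ne hx hy, div_mul_cancel₀ _ hden]
        simp
      simp only [Affine.negY, WeierstrassCurve.map_a₁, WeierstrassCurve.map_a₃] at hℓ' hden
      have eq₁ := n₁.1
      rw [Affine.equation_iff] at eq₁
      simp only [WeierstrassCurve.map_a₁, WeierstrassCurve.map_a₂, WeierstrassCurve.map_a₃,
        WeierstrassCurve.map_a₄, WeierstrassCurve.map_a₆] at eq₁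
      have hνd : ν * (y₁ - (-y₁ - ι W.a₁ * x₁ - ι W.a₃)) = -(y₁ ^ 2 * ι D) := by
        have hs' : ι s₁ = y₁⁻¹ := eq_inv_of_mul_eq_one_left hs₁
        simp only [ν, D, map_mul, map_add, map_sub, map_pow, map_one, map_ofNat]
        rw [hs']
        rw [hx₁] at eq₁ hℓ' ⊢
        field_simp
        linear_combination -(ι t₁ * y₁) * hℓ' + 3 * eq₁
      have hν : ν ≠ 0 := fun h => by
        rw [h, zero_mul, zero_eq_neg] at hνd
        exact mul_ne_zero (pow_ne_zero 2 hy₁) ((map_ne_zero_iff _ (IsFractionRing.injective R K)).2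
          (hu ▸ u.ne_zero)) hνd
      refine ⟨N * ↑u⁻¹, hν, mul_right_cancel₀ hden ?_, Ideal.mul_mem_right _ _ hN, ?_⟩
      · have hNK : ι N * y₁ ^ 2 = ℓ * (y₁ - (-y₁ - ι W.a₁ * x₁ - ι W.a₃)) := by
          have hs' : ι s₁ = y₁⁻¹ := eq_inv_of_mul_eq_one_left hs₁
          simp only [N, map_mul, map_add, map_sub, map_pow, map_ofNat]
          rw [hs', hℓ', hx₁]
          field_simp
        rw [mul_assoc, hνd, neg_mul, ← hNK, ← hu, map_mul]
        have : ι (↑u⁻¹ : R) * ι (u : R) = 1 := by rw [← map_mul, Units.inv_mul, map_one]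
        linear_combination -(ι N * y₁ ^ 2) * this
      · rw [← hx, ← hyy]; simp [ν]
    · have hℓ' : ℓ * (x₁ - x₂) = y₁ - y₂ := by
        rw [hℓ, Affine.slope_of_X_ne hx, div_mul_cancel₀ _ (sub_ne_zero.2 hx)]
      let G : R := 1 + (W.a₁ * t₂ + W.a₃ * (s₁ + s₂) - W.a₂ * t₂ ^ 2 - W.a₄ * t₂ * (s₁ + s₂)
        - W.a₆ * (s₁ ^ 2 + s₁ * s₂ + s₂ ^ 2))
      let M : R := t₁ ^ 2 + t₁ * t₂ + t₂ ^ 2 + W.a₂ * (t₁ + t₂) * s₁ + W.a₄ * s₁ ^ 2 - W.a₁ * s₁
      have hG : IsUnit G := isUnit_one_add (by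
        repeat first
          | exact Ideal.mul_mem_right _ _ hW.h₁
          | exact Ideal.mul_mem_right _ _ hW.h₂
          | exact Ideal.mul_mem_right _ _ hW.h₃
          | exact Ideal.mul_mem_right _ _ (Ideal.mul_mem_right _ _ hW.h₄)
          | exact Ideal.mul_mem_right _ _ hW.h₆
          | refine sub_mem ?_ ?_
          | refine add_mem ?_ ?_)
      obtain ⟨u, hu⟩ := hG
      have hM : M ∈ 𝔪 ^ j := by
        refine sub_mem (add_mem (add_mem (add_mem (add_mem ?_ ?_) ?_) ?_) ?_) ?_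
        · exact Ideal.pow_mem_of_mem _ ht₁ 2 (by norm_num)
        · exact Ideal.mul_mem_left _ _ ht₂
        · exact Ideal.pow_mem_of_mem _ ht₂ 2 (by norm_num)
        · exact Ideal.mul_mem_left _ _ hsj₁
        · exact Ideal.mul_mem_left _ _ (Ideal.pow_mem_of_mem _ hsj₁ 2 (by norm_num))
        · exact Ideal.mul_mem_left _ _ hsj₁
      have hfac : (s₁ - s₂) * G = (t₁ - t₂) * M := by linear_combination e₁ - e₂
      let α : R := M * ↑u⁻¹
      have hst : s₁ - s₂ = α * (t₁ - t₂) := by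
        have : (↑u⁻¹ : R) * (u : R) = 1 := Units.inv_mul _
        rw [← hu] at hfac
        linear_combination (↑u⁻¹ : R) * hfac - (s₁ - s₂) * this
      have hst' : ι s₁ - ι s₂ = ι α * (ι t₁ - ι t₂) := by rw [← map_sub, hst, map_mul, map_sub]
      have htne : ι t₁ - ι t₂ ≠ 0 := fun h => hx (by
        rw [h, mul_zero, sub_eq_zero] at hst'
        rw [sub_eq_zero] at h
        have : y₁ = y₂ := mul_left_cancel₀ (left_ne_zero_of_mul (hs₁ ▸ one_ne_zero : ι s₁ * y₁ ≠ 0))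
          (hs₁.trans (hst' ▸ hs₂.symm))
        rw [hx₁, hx₂, h, this])
      have hν : ν ≠ 0 := fun h => by
        have h0 : y₁ * y₂ * (ι t₁ - ι t₂) = 0 := by
          rw [hx₁, hx₂] at hℓ'
          simp only [ν, hx₁] at h
          have : ℓ * (ι t₂ * y₂) = y₂ := by linear_combination -hℓ' - h
          have h' : ℓ * (ι t₁ * y₁) = y₁ := by linear_combination -h
          linear_combination (ι t₂ * y₂) * h' - (ι t₁ * y₁) * this
        exact mul_ne_zero (mul_ne_zero hy₁ hy₂) htne h0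
      refine ⟨α, hν, mul_right_cancel₀ htne ?_, Ideal.mul_mem_right _ _ hM, ?_⟩
      · have r₁ : ℓ * ι t₁ + ν * ι s₁ = 1 := by
          simp only [ν]; linear_combination hs₁ - (ℓ * ι s₁) * hx₁ - (ℓ * ι t₁) * hs₁
        have r₂ : ℓ * ι t₂ + ν * ι s₂ = 1 := by
          simp only [ν]; linear_combination hs₂ - (ℓ * ι s₂) * hx₂ - (ℓ * ι t₂) * hs₂ - ι s₂ * hℓ'
        linear_combination r₁ - r₂ - ν * hst'
      · simp only [ν]; linear_combination hℓ'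
  obtain ⟨hαj, hy₂ν⟩ := hαj
  have hy₁ν : y₁ = ℓ * x₁ + ν := by simp [ν]
  let β : R := s₁ - α * t₁
  have hβ : ι β * ν = 1 := by
    simp only [β, map_sub, map_mul]
    have r₁ : ℓ * ι t₁ + ν * ι s₁ = 1 := by
      simp only [ν]; linear_combination hs₁ - (ℓ * ι s₁) * hx₁ - (ℓ * ι t₁) * hs₁
    linear_combination r₁ - ι t₁ * hα
  have hβj : β ∈ 𝔪 ^ j := sub_mem hsj₁ (Ideal.mul_mem_right _ _ hαj)
  -- Vieta
  have hP := Affine.addPolynomial_slope n₁.1 n₂.1 hxy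
  rw [← hℓ, ← hx₃, Affine.addPolynomial_eq, neg_inj, Cubic.prod_X_sub_C_eq, Cubic.toPoly_injective] at hP
  simp only [Cubic.mk.injEq, WeierstrassCurve.map_a₁, WeierstrassCurve.map_a₂, WeierstrassCurve.map_a₃,
    WeierstrassCurve.map_a₄, WeierstrassCurve.map_a₆, true_and] at hP
  obtain ⟨hb, hc, hd⟩ := hP
  have he₁ : x₁ + x₂ + x₃ = ℓ ^ 2 + ι W.a₁ * ℓ - ι W.a₂ := by linear_combination hb
  have he₂ : x₁ * x₂ + x₁ * x₃ + x₂ * x₃ = ι W.a₄ - 2 * ℓ * ν - ι W.a₁ * ν - ι W.a₃ * ℓ := by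
    simp only [ν]; linear_combination -hc
  have he₃ : x₁ * x₂ * x₃ = ν ^ 2 + ι W.a₃ * ν - ι W.a₆ := by
    simp only [ν]; linear_combination hd
  obtain ⟨hA, hB⟩ := line_core he₁ he₂ he₃
  rw [← hy₁ν, ← hy₂ν, show ℓ * x₃ + ν = y' from rfl] at hA hB
  let A : R := 1 + (W.a₂ * α + W.a₄ * α ^ 2 + W.a₆ * α ^ 3)
  let B : R := -(W.a₁ * α) - W.a₃ * α ^ 2 + W.a₂ * β + 2 * W.a₄ * α * β + 3 * W.a₆ * α ^ 2 * β
  have hAu : IsUnit A := isUnit_one_add (add_mem (add_mem (Ideal.mul_mem_right _ _ hW.h₂)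
    (Ideal.mul_mem_right _ _ hW.h₄)) (Ideal.mul_mem_right _ _ hW.h₆))
  have hℓα : ℓ = -(ι α * ν) := by rw [hα, neg_neg]
  have hA' : y₁ * y₂ * y' = ι A * ν ^ 3 := by
    rw [hA, hℓα]; simp only [A, map_add, map_mul, map_pow, map_one]; ring
  have hy' : y' ≠ 0 := fun h => by
    rw [h, mul_zero] at hA'
    exact mul_ne_zero ((map_ne_zero_iff _ (IsFractionRing.injective R K)).2 hAu.ne_zero) (pow_ne_zero 3 hν) hA'.symm
  obtain ⟨u, hu⟩ := hAu
  let t₃ : R := -(B * ↑u⁻¹) - t₁ - t₂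
  have hBj : B ∈ 𝔪 ^ (j + 1) := by
    refine add_mem (add_mem (add_mem (sub_mem (neg_mem (hjs hW.h₁ hαj)) ?_) (hjs hW.h₂ hβj)) ?_) ?_
    · rw [pow_two, ← mul_assoc]; exact hjs (Ideal.mul_mem_right _ _ hW.h₃) hαj
    · exact hjs (Ideal.mul_mem_right _ _ (Ideal.mul_mem_left _ _ hW.h₄)) hβj
    · exact hjs (Ideal.mul_mem_right _ _ (Ideal.mul_mem_left _ _ hW.h₆)) hβj
  have hx₃t : x₃ = ι t₃ * y' := by
    have hBK : (ι t₁ * y₁) * y₂ * y' + (ι t₂ * y₂) * y₁ * y' + x₃ * (y₁ * y₂) = -(ι B * ν ^ 3) := by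
      rw [← hx₁, ← hx₂, ← mul_assoc x₃, hB, hℓα]
      simp only [B, map_add, map_sub, map_neg, map_mul, map_pow, map_ofNat]
      linear_combination (ι W.a₂ * ν ^ 2 + 2 * ι W.a₄ * ι α * ν ^ 2 + 3 * ι W.a₆ * ι α ^ 2 * ν ^ 2) * hβ
    have : ι (↑u⁻¹ : R) * ι A = 1 := by rw [← hu, ← map_mul, Units.inv_mul, map_one]
    refine mul_right_cancel₀ (mul_ne_zero hy₁ hy₂) ?_
    simp only [t₃, map_sub, map_neg, map_mul]
    linear_combination hBK + ι B * ν ^ 3 * this + (ι B * ι (↑u⁻¹ : R)) * hA'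
  let s₃ : R := β + α * t₃
  have hs₃ : ι s₃ * y' = 1 := by
    simp only [s₃, map_add, map_mul]
    have hy'def : y' = ℓ * x₃ + ν := rfl
    linear_combination ι β * hy'def + hβ + (ι β * ℓ) * hx₃t + (ι β * ι t₃ * y') * hα
      - (ι α * ι t₃ * y') * hβ
  have ht₃ : t₃ ∈ 𝔪 ^ j :=
    sub_mem (sub_mem (neg_mem (Ideal.mul_mem_right _ _ (Ideal.pow_le_pow_right (Nat.le_succ j) hBj))) ht₁) ht₂
  have hd : W.a₁ * t₃ + W.a₃ * s₃ ∈ 𝔪 := add_mem (Ideal.mul_mem_right _ _ hW.h₁) (Ideal.mul_mem_right _ _ hW.h₃)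
  obtain ⟨w, hw⟩ := isUnit_one_add hd
  refine ⟨-(t₃ * ↑w⁻¹), -(s₃ * ↑w⁻¹), ?_, ?_⟩
  · rw [Affine.Point.add_some hxy]
    have hY : (E).addY x₁ x₂ y₁ ℓ = -y' * ι (w : R) := by
      simp only [Affine.addY, Affine.negY, Affine.negAddY, ← hx₃, hw, WeierstrassCurve.map_a₁,
        WeierstrassCurve.map_a₃, map_add, map_one, map_mul]
      simp only [y', ν]
      linear_combination -(ι W.a₁) * hx₃t + ι W.a₃ * hs₃
    have : ι (↑w⁻¹ : R) * ι (w : R) = 1 := by rw [← map_mul, Units.inv_mul, map_one]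
    refine ⟨?_, ?_⟩
    · show x₃ = _ * (E).addY x₁ x₂ y₁ ℓ
      rw [hY, map_neg, map_mul]
      linear_combination hx₃t - (ι t₃ * y') * this
    · show _ * (E).addY x₁ x₂ y₁ ℓ = 1
      rw [hY, map_neg, map_mul]
      linear_combination hs₃ + (ι s₃ * y') * this
  · have key : -(t₃ * ↑w⁻¹) - t₁ - t₂ = (W.a₁ * t₃ + W.a₃ * s₃) * (t₃ * ↑w⁻¹) + B * ↑u⁻¹ := by
      have : (↑w⁻¹ : R) * (w : R) = 1 := Units.inv_mul _
      rw [hw] at this
      have ht₃def : t₃ = -(B * ↑u⁻¹) - t₁ - t₂ := rfl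
      linear_combination (-t₃) * this + (-1 : R) * ht₃def
    rw [key]
    exact add_mem (hjs hd (Ideal.mul_mem_right _ _ ht₃)) (Ideal.mul_mem_right _ _ hBj)

include hW in
theorem par_nsmul (j : ℕ) {Q : (E).Point} {t s : R} (p : Par W Q t s) (ht : t ∈ 𝔪 ^ j) :
    ∀ m : ℕ, ∃ t' s', Par W (m • Q) t' s' ∧ t' ∈ 𝔪 ^ j ∧ t' - m * t ∈ 𝔪 ^ (j + 1)
  | 0 => ⟨0, 0, by rw [zero_nsmul]; exact par_zero, zero_mem _, by simp⟩
  | m + 1 => by
    obtain ⟨t', s', p', ht', hm⟩ := par_nsmul j p ht m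
    obtain ⟨t'', s'', p'', h⟩ := par_add hW j p' p ht' ht
    refine ⟨t'', s'', by rw [succ_nsmul]; exact p'', ?_, ?_⟩
    · have := add_mem (add_mem (Ideal.pow_le_pow_right (Nat.le_succ j) h) ht') ht
      convert this using 1; ring
    · convert add_mem h hm using 1
      push_cast; ring

include hW in
/-- Points of order invertible in the residue field have no parameters. -/
theorem eq_zero_of_nsmul_eq_zero [IsNoetherianRing R] {Q : (E).Point} {t s : R} (p : Par W Q t s) {n : ℕ}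
    (hn : IsUnit (n : R)) (h : n • Q = 0) : Q = 0 := by
  have hall : ∀ j, t ∈ 𝔪 ^ j := by
    intro j
    induction j with
    | zero => simp
    | succ j ih =>
      obtain ⟨t', s', p', -, hm⟩ := par_nsmul hW j p ih n
      rw [h] at p'
      obtain ⟨rfl, -⟩ := p'
      rw [zero_sub, neg_mem_iff] at hm
      exact (Ideal.unit_mul_mem_iff_mem _ hn).1 hm
  have ht : t = 0 := by
    have : t ∈ ⨅ j, 𝔪 ^ j := by simpa using hall
    rwa [Ideal.iInf_pow_eq_bot_of_isLocalRing _ (Ideal.IsPrime.ne_top inferInstance), Ideal.mem_bot] at this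
  rcases Q with - | ⟨x, y, hn'⟩
  · rfl
  · exfalso
    obtain ⟨hx, hs⟩ := p
    have : s = 0 := by
      have := s_mem hW hn'.1 hx hs (I := ⊥) (by simp [ht])
      simpa using this
    rw [this, map_zero, zero_mul] at hs
    exact zero_ne_one hs

include hW in
/-- An affine point without parameters has both coordinates in the maximal ideal. -/
theorem mem_or_par [ValuationRing R] {x y : K} (h : (E).Nonsingular x y) :
    (∃ X Y : R, X ∈ 𝔪 ∧ Y ∈ 𝔪 ∧ ι X = x ∧ ι Y = y) ∨ ∃ t s, Par W (.some x y h) t s := by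
  have heq := h.1
  rw [Affine.equation_iff] at heq
  simp only [WeierstrassCurve.map_a₁, WeierstrassCurve.map_a₂, WeierstrassCurve.map_a₃,
    WeierstrassCurve.map_a₄, WeierstrassCurve.map_a₆] at heq
  have split : ∀ z : K, (∃ a, ι a = z) ∨ (∃ a, a ∈ 𝔪 ∧ ι a * z = 1) := by
    intro z
    obtain ⟨a, ha⟩ | ⟨a, ha⟩ := ValuationRing.isInteger_or_isInteger R z
    · exact .inl ⟨a, ha⟩
    by_cases hz : z = 0
    · exact .inl ⟨0, by simp [hz]⟩
    by_cases hu : IsUnit a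
    · obtain ⟨u, rfl⟩ := hu
      refine .inl ⟨↑u⁻¹, ?_⟩
      rw [map_units_inv, ha, inv_inv]
    · exact .inr ⟨a, (IsLocalRing.mem_maximalIdeal a).2 hu, by rw [ha, inv_mul_cancel₀ hz]⟩
  obtain ⟨X, rfl⟩ | ⟨a, ha, hax⟩ := split x
  · obtain ⟨Y, rfl⟩ | ⟨b, hb, hby⟩ := split y
    · by_cases hY : IsUnit Y
      · obtain ⟨u, rfl⟩ := hY
        refine .inr ⟨X * ↑u⁻¹, ↑u⁻¹, ?_, ?_⟩
        · rw [map_mul, mul_assoc, ← map_mul, Units.inv_mul, map_one, mul_one]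
        · rw [← map_mul, Units.inv_mul, map_one]
      · have hYm := (IsLocalRing.mem_maximalIdeal Y).2 hY
        refine .inl ⟨X, Y, ?_, hYm, rfl, rfl⟩
        have e : X ^ 3 = Y ^ 2 + W.a₁ * X * Y + W.a₃ * Y - W.a₂ * X ^ 2 - W.a₄ * X - W.a₆ := by
          refine IsFractionRing.injective R K ?_
          simp only [map_mul, map_add, map_sub, map_pow]
          linear_combination -heq
        refine Ideal.IsPrime.mem_of_pow_mem inferInstance 3 (e ▸ ?_)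
        exact sub_mem (sub_mem (sub_mem (add_mem (add_mem (Ideal.pow_mem_of_mem _ hYm 2 two_pos)
          (Ideal.mul_mem_left _ _ hYm)) (Ideal.mul_mem_left _ _ hYm)) (Ideal.mul_mem_right _ _ hW.h₂))
          (Ideal.mul_mem_right _ _ hW.h₄)) hW.h₆
    · exact .inr ⟨X * b, b, by rw [map_mul, mul_assoc, hby, mul_one], hby⟩
  · obtain ⟨Y, rfl⟩ | ⟨b, hb, hby⟩ := split y
    · exfalso
      have e : Y ^ 2 * a ^ 3 + W.a₁ * Y * a ^ 2 + W.a₃ * Y * a ^ 3 =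
          1 + (W.a₂ * a + W.a₄ * a ^ 2 + W.a₆ * a ^ 3) := by
        refine IsFractionRing.injective R K ?_
        simp only [map_mul, map_add, map_pow, map_one]
        linear_combination ι a ^ 3 * heq + ((ι a * x) ^ 2 + ι a * x + 1 + ι W.a₂ * ι a * (ι a * x + 1) +
          ι W.a₄ * ι a ^ 2 - ι W.a₁ * ι Y * ι a ^ 2) * hax
      have hm : Y ^ 2 * a ^ 3 + W.a₁ * Y * a ^ 2 + W.a₃ * Y * a ^ 3 ∈ 𝔪 :=
        add_mem (add_mem (Ideal.mul_mem_left _ _ (Ideal.pow_mem_of_mem _ ha 3 (by norm_num)))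
          (Ideal.mul_mem_left _ _ (Ideal.pow_mem_of_mem _ ha 2 two_pos)))
          (Ideal.mul_mem_left _ _ (Ideal.pow_mem_of_mem _ ha 3 (by norm_num)))
      rw [e] at hm
      exact (IsLocalRing.mem_maximalIdeal _).1 hm (isUnit_one_add (add_mem (add_mem (Ideal.mul_mem_right _ _ hW.h₂)
        (Ideal.mul_mem_right _ _ hW.h₄)) (Ideal.mul_mem_right _ _ hW.h₆)))
    · obtain ⟨t, ht⟩ | ⟨u, hu, hut⟩ := split (x * ι b)
      · exact .inr ⟨t, b, by rw [ht, mul_assoc, hby, mul_one], hby⟩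
      · exfalso
        have hw : ι a = ι u * ι b := by linear_combination -ι a * hut + (ι u * ι b) * hax
        have e : u ^ 2 * a + W.a₁ * u * a + W.a₃ * u * a ^ 2 =
            1 + (W.a₂ * a + W.a₄ * a ^ 2 + W.a₆ * a ^ 3) := by
          refine IsFractionRing.injective R K ?_
          simp only [map_mul, map_add, map_pow, map_one]
          have huy : ι u = ι a * y := by rw [hw, mul_assoc, hby, mul_one]
          rw [huy]
          linear_combination ι a ^ 3 * heq + ((ι a * x) ^ 2 + ι a * x + 1 + ι W.a₂ * ι a * (ι a * x + 1) +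
            ι W.a₄ * ι a ^ 2 - ι W.a₁ * y * ι a ^ 2) * hax
        have hm : u ^ 2 * a + W.a₁ * u * a + W.a₃ * u * a ^ 2 ∈ 𝔪 :=
          add_mem (add_mem (Ideal.mul_mem_left _ _ ha) (Ideal.mul_mem_left _ _ ha))
            (Ideal.mul_mem_left _ _ (Ideal.pow_mem_of_mem _ ha 2 two_pos))
        rw [e] at hm
        exact (IsLocalRing.mem_maximalIdeal _).1 hm (isUnit_one_add (add_mem (add_mem (Ideal.mul_mem_right _ _ hW.h₂)
          (Ideal.mul_mem_right _ _ hW.h₄)) (Ideal.mul_mem_right _ _ hW.h₆)))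

end EllTorsLib
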