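import Groth.Agent.EllTorsLib.Basic

/-! Moving a cusp to the origin; transport of points along a change of variables; the valuation contradiction. -/

set_option autoImplicit false
set_option maxHeartbeats 400000
universe u v

open IsLocalRing WeierstrassCurve
open WeierstrassCurve (Affine)

noncomputable section

namespace EllTorsLib

section Cusp

variable {k : Type u} [Field k] [IsAlgClosed k]

/-- A cubic with a cusp is `y² = x³` after a change of variables. -/
theorem exists_change (W : WeierstrassCurve k) (hΔ : W.Δ = 0) (hc : W.c₄ = 0) :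
    ∃ r s t : k, ((VariableChange.mk 1 r s t) • W).a₁ = 0 ∧ ((VariableChange.mk 1 r s t) • W).a₂ = 0 ∧
      ((VariableChange.mk 1 r s t) • W).a₃ = 0 ∧ ((VariableChange.mk 1 r s t) • W).a₄ = 0 ∧
      ((VariableChange.mk 1 r s t) • W).a₆ = 0 := by
  -- first a singular point
  obtain ⟨r, t, h3, h4, h6⟩ : ∃ r t : k, W.a₃ + r * W.a₁ + 2 * t = 0 ∧
      W.a₄ + 2 * r * W.a₂ - t * W.a₁ + 3 * r ^ 2 = 0 ∧
      W.a₆ + r * W.a₄ + r ^ 2 * W.a₂ + r ^ 3 - t * W.a₃ - t ^ 2 - r * t * W.a₁ = 0 := by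
    by_cases h2 : (2 : k) = 0
    · have ha1 : W.a₁ = 0 := by
        refine pow_eq_zero_iff (n := 4) (by norm_num) |>.1 ?_
        rw [c₄, b₂, b₄] at hc
        linear_combination hc - (4 * W.a₁ ^ 2 * W.a₂ + 8 * W.a₂ ^ 2 - 24 * W.a₄ - 12 * W.a₁ * W.a₃) * h2
      have ha3 : W.a₃ = 0 := by
        refine pow_eq_zero_iff (n := 4) (by norm_num) |>.1 ?_
        rw [Δ, b₂, b₄, b₆, b₈, ha1] at hΔ
        linear_combination hΔ + (32 * W.a₂ ^ 3 * W.a₆ * 1 + 8 * W.a₂ ^ 3 * W.a₃ ^ 2 - 8 * W.a₂ ^ 2 * W.a₄ ^ 2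
          + 32 * W.a₄ ^ 3 + 216 * W.a₆ ^ 2 + 108 * W.a₃ ^ 2 * W.a₆ + 14 * W.a₃ ^ 4
          - 144 * W.a₂ * W.a₄ * W.a₆ - 36 * W.a₂ * W.a₃ ^ 2 * W.a₄) * h2
      obtain ⟨r, hr⟩ := IsAlgClosed.exists_pow_nat_eq (W.a₄) (n := 2) two_pos
      obtain ⟨t, ht⟩ := IsAlgClosed.exists_pow_nat_eq (W.a₆ + r * W.a₄ + r ^ 2 * W.a₂ + r ^ 3) (n := 2) two_pos
      refine ⟨r, t, ?_, ?_, ?_⟩
      · rw [ha1, ha3]; linear_combination t * h2
      · rw [ha1]; linear_combination -hr + (r * W.a₂ + 2 * r ^ 2) * h2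
      · rw [ha1, ha3]; linear_combination -ht
    by_cases h3 : (3 : k) = 0
    · have hb2 : W.b₂ = 0 := by
        refine pow_eq_zero_iff (n := 2) (by norm_num) |>.1 ?_
        rw [c₄] at hc
        linear_combination hc + 8 * W.b₄ * h3
      have hb4 : W.b₄ = 0 := by
        refine pow_eq_zero_iff (n := 3) (by norm_num) |>.1 ?_
        rw [Δ, hb2] at hΔ
        linear_combination hΔ + (3 * W.b₄ ^ 3 + 9 * W.b₆ ^ 2) * h3
      obtain ⟨r, hr⟩ := IsAlgClosed.exists_pow_nat_eq (-W.b₆ / 4) (n := 3) (by norm_num)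
      have h4' : (4 : k) ≠ 0 := fun h => h2 (mul_self_eq_zero.1 (by linear_combination h))
      have hr' : 4 * r ^ 3 = -W.b₆ := by rw [hr, mul_div_cancel₀ _ h4']
      refine ⟨r, -(W.a₃ + r * W.a₁) / 2, by field_simp; ring, ?_, ?_⟩ <;>
        simp only [b₂, b₄, b₆] at hb2 hb4 hr' <;> field_simp
      · linear_combination hb4 + r * hb2 + 2 * r ^ 2 * h3
      · linear_combination hr' + r ^ 2 * hb2 + 2 * r * hb4
    have h12 : (12 : k) ≠ 0 := fun h => by
      rcases mul_eq_zero.1 (show (3 : k) * (2 * 2) = 0 by linear_combination h) with h' | h'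
      · exact h3 h'
      · exact h2 (mul_self_eq_zero.1 h')
    have h432 : (27 : k) ≠ 0 := fun h => by
      rcases mul_eq_zero.1 (show (3 : k) * (3 * 3) = 0 by linear_combination h) with h' | h'
      · exact h3 h'
      · exact h3 (mul_self_eq_zero.1 h')
    let r : k := -W.b₂ / 12
    have hr : 12 * r = -W.b₂ := mul_div_cancel₀ _ h12
    let C : VariableChange k := ⟨1, r, 0, -(W.a₃ + r * W.a₁) / 2⟩
    have hC2 : (C • W).b₂ = 0 := by
      rw [variableChange_b₂]; simp only [C, inv_one, Units.val_one, one_pow, one_mul]; linear_combination hr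
    have hC4 : (C • W).b₄ = 0 := by
      have h24 : (24 : k) ≠ 0 := fun h => mul_ne_zero h2 h12 (by linear_combination h)
      rw [variableChange_b₄]; simp only [C, inv_one, Units.val_one, one_pow, one_mul]
      refine (mul_eq_zero.1 (show (24 : k) * (W.b₄ + r * W.b₂ + 6 * r ^ 2) = 0 from ?_)).resolve_left h24
      rw [c₄] at hc
      linear_combination -hc + (W.b₂ + 12 * r) * hr
    have hC6 : (C • W).b₆ = 0 := by
      have : (C • W).Δ = 0 := by rw [variableChange_Δ, hΔ, mul_zero]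
      rw [Δ, hC2, hC4] at this
      have h' : (27 : k) * ((C • W).b₆ * (C • W).b₆) = 0 := by linear_combination -this
      exact mul_self_eq_zero.1 ((mul_eq_zero.1 h').resolve_left h432)
    refine ⟨r, -(W.a₃ + r * W.a₁) / 2, by field_simp; ring, ?_, ?_⟩
    · rw [variableChange_b₄] at hC4
      simp only [C, inv_one, Units.val_one, one_pow, one_mul, b₂, b₄] at hC4
      field_simp
      linear_combination hC4
    · rw [variableChange_b₆] at hC6
      simp only [C, inv_one, Units.val_one, one_pow, one_mul, b₂, b₄, b₆] at hC6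
      field_simp
      linear_combination hC6
  let D := VariableChange.mk 1 r 0 t • W
  have hD1 : D.a₁ = W.a₁ := by simp [D, variableChange_a₁]
  have hD2 : D.a₂ = W.a₂ + 3 * r := by simp [D, variableChange_a₂]
  have hb : D.b₂ = 0 := by
    refine pow_eq_zero_iff (n := 2) (by norm_num) |>.1 ?_
    have h : D.c₄ = 0 := by rw [variableChange_c₄, hc, mul_zero]
    have hD3 : D.a₃ = 0 := by simp [D, variableChange_a₃, h3]
    have hD4 : D.a₄ = 0 := by simp [D, variableChange_a₄, h4]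
    rw [c₄, b₄, hD3, hD4] at h
    linear_combination h
  rw [b₂, hD1, hD2] at hb
  obtain ⟨s, hs⟩ := IsAlgClosed.exists_root
    (Polynomial.X ^ 2 + Polynomial.C W.a₁ * Polynomial.X - Polynomial.C (W.a₂ + 3 * r)) (by
      rw [show (Polynomial.X ^ 2 + Polynomial.C W.a₁ * Polynomial.X - Polynomial.C (W.a₂ + 3 * r) : Polynomial k) =
        Polynomial.C 1 * Polynomial.X ^ 2 + Polynomial.C W.a₁ * Polynomial.X + Polynomial.C (-(W.a₂ + 3 * r)) by
          simp; ring, Polynomial.degree_quadratic one_ne_zero]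
      decide)
  simp only [Polynomial.IsRoot, Polynomial.eval_sub, Polynomial.eval_add, Polynomial.eval_pow, Polynomial.eval_X,
    Polynomial.eval_mul, Polynomial.eval_C] at hs
  refine ⟨r, s, t, ?_, ?_, ?_, ?_, ?_⟩
  · simp only [variableChange_a₁, inv_one, Units.val_one, one_mul]
    refine mul_self_eq_zero.1 ?_
    linear_combination hb + 4 * hs
  · simp only [variableChange_a₂, inv_one, Units.val_one, one_mul, one_pow]; linear_combination -hs
  · simp only [variableChange_a₃, inv_one, Units.val_one, one_mul, one_pow]; linear_combination h3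
  · simp only [variableChange_a₄, inv_one, Units.val_one, one_mul, one_pow]; linear_combination h4 - s * h3
  · simp only [variableChange_a₆, inv_one, Units.val_one, one_mul, one_pow]; linear_combination h6

end Cusp

section Transport

variable {K : Type v} [Field K] [DecidableEq K] (W : WeierstrassCurve K) [W.IsElliptic] (r s t : K)

local notation "W'" => (VariableChange.mk 1 r s t • W)

instance : WeierstrassCurve.IsElliptic W' :=
  (WeierstrassCurve.isElliptic_iff _).2 (by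
    simpa [variableChange_Δ] using (WeierstrassCurve.isElliptic_iff W).1 inferInstance)

theorem nonsingular_shift {x y : K} (h : W.toAffine.Nonsingular x y) :
    (W').toAffine.Nonsingular (x - r) (y - s * (x - r) - t) := by
  rw [← Affine.equation_iff_nonsingular]
  have h' := h.1
  rw [Affine.equation_iff] at h' ⊢
  simp only [variableChange_a₁, variableChange_a₂, variableChange_a₃, variableChange_a₄, variableChange_a₆,
    inv_one, Units.val_one, one_mul, one_pow]
  linear_combination h'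

/-- Transport of points. -/
def shiftPt : W.toAffine.Point → (W').toAffine.Point
  | .zero => .zero
  | .some _ _ h => .some _ _ (nonsingular_shift W r s t h)

theorem shiftPt_add (P Q : W.toAffine.Point) : shiftPt W r s t (P + Q) = shiftPt W r s t P + shiftPt W r s t Q := by
  rcases P with - | ⟨x₁, y₁, h₁⟩
  · rw [← Affine.Point.zero_def, zero_add]; exact (zero_add _).symm
  rcases Q with - | ⟨x₂, y₂, h₂⟩
  · rw [← Affine.Point.zero_def, add_zero]; exact (add_zero _).symm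
  have hneg : (W').toAffine.negY (x₂ - r) (y₂ - s * (x₂ - r) - t) =
      W.toAffine.negY x₂ y₂ - s * (x₂ - r) - t := by
    simp only [Affine.negY, variableChange_a₁, variableChange_a₃, inv_one, Units.val_one, one_mul, one_pow]
    ring
  by_cases hxy : x₁ = x₂ ∧ y₁ = W.toAffine.negY x₂ y₂
  · rw [Affine.Point.add_of_Y_eq hxy.1 hxy.2]
    refine (Affine.Point.add_of_Y_eq ?_ ?_).symm
    · rw [hxy.1]
    · rw [hneg, hxy.1, hxy.2]
  have hxy' : ¬(x₁ - r = x₂ - r ∧ y₁ - s * (x₁ - r) - t = (W').toAffine.negY (x₂ - r) (y₂ - s * (x₂ - r) - t)) := by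
    rw [hneg]
    rintro ⟨hx, hy⟩
    have hx' : x₁ = x₂ := sub_left_inj.1 hx
    exact hxy ⟨hx', by rw [hx'] at hy; linear_combination hy⟩
  show shiftPt W r s t (_ + _) = Affine.Point.some _ _ _ + Affine.Point.some _ _ _
  rw [Affine.Point.add_some hxy, Affine.Point.add_some hxy']
  have hs : (W').toAffine.slope (x₁ - r) (x₂ - r) (y₁ - s * (x₁ - r) - t) (y₂ - s * (x₂ - r) - t) =
      W.toAffine.slope x₁ x₂ y₁ y₂ - s := by
    by_cases hx : x₁ = x₂
    · have hy : y₁ ≠ W.toAffine.negY x₂ y₂ := fun h => hxy ⟨hx, h⟩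
      have hy' : y₁ - s * (x₁ - r) - t ≠ (W').toAffine.negY (x₂ - r) (y₂ - s * (x₂ - r) - t) := fun h =>
        hxy' ⟨by rw [hx], h⟩
      rw [Affine.slope_of_Y_ne hx hy, Affine.slope_of_Y_ne (by rw [hx]) hy']
      have hd : y₁ - W.toAffine.negY x₁ y₁ ≠ 0 := by
        have := Affine.Y_eq_of_Y_ne h₁.1 h₂.1 hx hy
        rw [sub_ne_zero]; intro h; exact hy (by rw [← hx, ← this]; exact h)
      have hd' : y₁ - s * (x₁ - r) - t - (W').toAffine.negY (x₁ - r) (y₁ - s * (x₁ - r) - t) =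
          y₁ - W.toAffine.negY x₁ y₁ := by
        simp only [Affine.negY, variableChange_a₁, variableChange_a₃, inv_one, Units.val_one, one_mul, one_pow]
        ring
      rw [hd', div_eq_iff hd, sub_mul, div_mul_cancel₀ _ hd]
      simp only [Affine.negY, variableChange_a₁, variableChange_a₂, variableChange_a₄, inv_one, Units.val_one,
        one_mul, one_pow]
      ring
    · rw [Affine.slope_of_X_ne hx, Affine.slope_of_X_ne (fun h => hx (sub_left_inj.1 h))]
      field_simp [sub_ne_zero.2 hx]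
      ring
  simp only [shiftPt, Affine.Point.some.injEq]
  rw [hs]
  constructor <;>
    simp only [Affine.addX, Affine.addY, Affine.negAddY, Affine.negY, variableChange_a₁, variableChange_a₂,
      variableChange_a₃, inv_one, Units.val_one, one_mul, one_pow] <;> ring

/-- The isomorphism of groups of points. -/
def shiftHom : W.toAffine.Point →+ (W').toAffine.Point :=
  { toFun := shiftPt W r s t, map_zero' := rfl, map_add' := shiftPt_add W r s t }

theorem shiftHom_injective : Function.Injective (shiftHom W r s t) := by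
  rw [injective_iff_map_eq_zero]
  rintro (- | ⟨x, y, h⟩) hP
  · rfl
  · exact absurd hP (Affine.Point.some_ne_zero _)

end Transport

section Contradiction

variable {R : Type u} [CommRing R] [IsDomain R] [IsDiscreteValuationRing R]

local notation "𝔪" => IsLocalRing.maximalIdeal R

/-- The valuations are impossible on a minimal equation. -/
theorem false_of_coords {a₁ a₂ a₃ X₃ X₄ : R} (h₁ : a₁ ∈ 𝔪) (h₂ : a₂ ∈ 𝔪) (h₃ : a₃ ∈ 𝔪)
    (hmin : ¬(a₂ ∈ 𝔪 ^ 2 ∧ a₃ ∈ 𝔪 ^ 3)) (hX₃ : X₃ ∈ 𝔪) (hX₄ : X₄ ∈ 𝔪)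
    (e₃ : X₃ * a₂ ^ 2 = a₃ * (a₃ - a₁ * a₂))
    (e₄ : X₄ * (a₃ - a₁ * a₂) ^ 2 = a₂ * (a₃ * (a₃ - a₁ * a₂) + a₂ ^ 3)) : False := by
  obtain ⟨ϖ, hϖ⟩ := IsDiscreteValuationRing.exists_irreducible R
  have hm : ∀ (a : R) (n : ℕ), a ∈ 𝔪 ^ n ↔ ϖ ^ n ∣ a := fun a n => by
    rw [hϖ.maximalIdeal_eq, Ideal.span_singleton_pow, Ideal.mem_span_singleton]
  have hm1 : ∀ a : R, a ∈ 𝔪 ↔ ϖ ∣ a := fun a => by rw [hϖ.maximalIdeal_eq, Ideal.mem_span_singleton]
  have hp : Prime ϖ := hϖ.prime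
  rw [hm, hm] at hmin
  rw [hm1] at h₁ h₂ h₃ hX₃ hX₄
  obtain ⟨b₁, rfl⟩ := h₁
  obtain ⟨b₂, rfl⟩ := h₂
  obtain ⟨b₃, rfl⟩ := h₃
  obtain ⟨Y₃, rfl⟩ := hX₃
  obtain ⟨Y₄, rfl⟩ := hX₄
  have h0 : ϖ ≠ 0 := hϖ.ne_zero
  have e₃' : ϖ * Y₃ * b₂ ^ 2 = b₃ * (b₃ - ϖ * b₁ * b₂) :=
    mul_left_cancel₀ (pow_ne_zero 2 h0) (by linear_combination e₃)
  by_cases hb₂ : ϖ ∣ b₂
  · have hb₃ : ¬ ϖ ^ 2 ∣ b₃ := fun h => hmin ⟨by
        rw [pow_two]; exact mul_dvd_mul_left _ hb₂, by
        rw [pow_succ' ϖ 2]; exact mul_dvd_mul_left _ h⟩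
    obtain ⟨c₂, rfl⟩ := hb₂
    have h1 : ϖ ∣ b₃ := by
      refine (hp.dvd_of_dvd_pow (n := 2) ⟨ϖ ^ 2 * Y₃ * c₂ ^ 2 + b₁ * (ϖ * c₂) * b₃, ?_⟩)
      linear_combination -e₃'
    obtain ⟨c₃, rfl⟩ := h1
    have e₃'' : ϖ * Y₃ * c₂ ^ 2 = c₃ * (c₃ - ϖ * b₁ * c₂) :=
      mul_left_cancel₀ (pow_ne_zero 2 h0) (by linear_combination e₃')
    refine hb₃ (by
      rw [pow_two]
      refine mul_dvd_mul_left _ (hp.dvd_of_dvd_pow (n := 2) ⟨Y₃ * c₂ ^ 2 + b₁ * c₂ * c₃, ?_⟩)
      linear_combination -e₃'')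
  · have h1 : ϖ ∣ b₃ := by
      refine (hp.dvd_of_dvd_pow (n := 2) ⟨Y₃ * b₂ ^ 2 + b₁ * b₂ * b₃, ?_⟩)
      linear_combination -e₃'
    obtain ⟨c₃, rfl⟩ := h1
    have e₄' : ϖ * Y₄ * (c₃ - b₁ * b₂) ^ 2 = b₂ * (ϖ * c₃ * (c₃ - b₁ * b₂) + b₂ ^ 3) :=
      mul_left_cancel₀ (pow_ne_zero 4 h0) (by linear_combination e₄)
    exact hb₂ (hp.dvd_of_dvd_pow (n := 4) ⟨Y₄ * (c₃ - b₁ * b₂) ^ 2 - b₂ * c₃ * (c₃ - b₁ * b₂),
      by linear_combination -e₄'⟩)

end Contradiction

end EllTorsLib
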